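import Groth.Agent.FlatMor3.Thick.Descent
import Groth.Agent.KSix54.Pull.BCScheme
import Groth.Agent.H9Misc.DRingNilp

/-!
# Tor amplitude descends along nilpotent thickenings of the base
-/

set_option linter.style.haveILetI false
set_option backward.isDefEq.respectTransparency false
set_option backward.isDefEq.respectTransparency.types false

universe u

open CategoryTheory CategoryTheory.Limits AlgebraicGeometry

attribute [local instance] HasDerivedCategory.standard

namespace Groth.Agent.FlatMor3.Thick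

open Groth.Agent.KFlatLib Groth.Agent.H9Misc Groth.Agent.KSix54.Pull

variable {X Y X' Y' : Scheme.{u}} {f : X ⟶ Y} {h : Y' ⟶ Y} {g : X' ⟶ X} {f' : X' ⟶ Y'}

lemma surjective_bcMap [IsClosedImmersion h] (hc : IsPullback g f' f h) (z : X') :
    Function.Surjective (bcMap hc z).hom := by
  have e : f (g z) = h (f' z) := congrArg (fun q => q.base z) hc.w
  haveI : IsIso (Y.presheaf.stalkSpecializes (specializes_of_eq e.symm)) :=
    ⟨Y.presheaf.stalkSpecializes (specializes_of_eq e),
      by rw [TopCat.Presheaf.stalkSpecializes_comp, TopCat.Presheaf.stalkSpecializes_refl],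
      by rw [TopCat.Presheaf.stalkSpecializes_comp, TopCat.Presheaf.stalkSpecializes_refl]⟩
  exact (h.stalkMap_surjective (f' z)).comp (ConcreteCategory.bijective_of_isIso
    (Y.presheaf.stalkSpecializes (specializes_of_eq e.symm))).2

lemma isNilpotent_ker_bcMap (hn : ∀ y, IsNilpotent (RingHom.ker (h.stalkMap y).hom))
    (hc : IsPullback g f' f h) (z : X') : IsNilpotent (RingHom.ker (bcMap hc z).hom) := by
  have e : f (g z) = h (f' z) := congrArg (fun q => q.base z) hc.w
  let s := Y.presheaf.stalkSpecializes (specializes_of_eq e.symm)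
  let t := Y.presheaf.stalkSpecializes (specializes_of_eq e)
  have hst : s ≫ t = 𝟙 _ := by
    rw [TopCat.Presheaf.stalkSpecializes_comp, TopCat.Presheaf.stalkSpecializes_refl]
  obtain ⟨n, hn⟩ := hn (f' z)
  refine ⟨n, le_antisymm ?_ bot_le⟩
  have hle : RingHom.ker (bcMap hc z).hom ≤ (RingHom.ker (h.stalkMap (f' z)).hom).map t.hom := by
    intro r hr
    have h1 : t.hom (s.hom r) = r := congrArg (fun q => q.hom r) hst
    rw [← h1]
    exact Ideal.mem_map_of_mem t.hom hr
  refine (Ideal.pow_right_mono hle n).trans ?_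
  rw [← Ideal.map_pow, hn]
  exact (Ideal.map_bot).le

/-- A flat surjective local map is bijective. -/
lemma bijective_of_flat_surjective {C T D : Type u} [CommRing C] [CommRing T] [CommRing D]
    [IsLocalRing C] [IsLocalRing D] (p : C →+* T) (σ : T →+* D) (hp : Function.Surjective p)
    [IsLocalHom (σ.comp p)] (hs : Function.Surjective (σ.comp p)) (hσ : σ.Flat) :
    Function.Bijective σ := by
  haveI : Nontrivial T := σ.domain_nontrivial
  haveI : IsLocalRing T := IsLocalRing.of_surjective' p hp
  haveI : IsLocalHom σ := ⟨fun t ht => by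
    obtain ⟨c, rfl⟩ := hp t
    exact (isUnit_of_map_unit (σ.comp p) c ht).map p⟩
  letI := σ.toAlgebra
  haveI : IsLocalHom (algebraMap T D) := inferInstanceAs (IsLocalHom σ)
  haveI : Module.Flat T D := hσ
  haveI : Module.FaithfullyFlat T D := Module.FaithfullyFlat.of_flat_of_isLocalHom
  exact ⟨(FaithfulSMul.algebraMap_injective T D : _), (show Function.Surjective (σ ∘ p) from hs).of_comp⟩

/-- A complex is its extension along a bijective map, restricted. -/
noncomputable def resExtIso {A B : Type u} [CommRing A] [CommRing B] (σ : A →+* B)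
    (hσ : Function.Bijective σ) (M : DRing.Cx A) :
    M ≅ (DRing.restrictCx σ).obj ((DRingLTensor.extC' σ).obj M) :=
  haveI : ∀ N : ModuleCat.{u} A, IsIso ((ModuleCat.extendRestrictScalarsAdj σ).unit.app N) := fun N =>
    DRingNilp.isIso_unit σ hσ.2 N fun r hr x => by
      rw [(RingHom.injective_iff_ker_eq_bot σ).1 hσ.1] at hr
      rw [show r = 0 from hr, zero_smul]
  HomologicalComplex.Hom.isoOfComponents
    (fun n => asIso ((ModuleCat.extendRestrictScalarsAdj σ).unit.app (M.X n)))
    (fun i j _ => ((ModuleCat.extendRestrictScalarsAdj σ).unit.naturality (M.d i j)).symm)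

/-- The stalk complex of a pullback along a closed immersion of the base is the extension of scalars of the stalk
complex over the base. -/
theorem nonempty_extend_stalk_iso [IsClosedImmersion h] (hc : IsPullback g f' f h)
    (P : CochainComplex X.Modules ℤ) (z : X') :
    Nonempty ((DRingLTensor.extC' (bcMap hc z).hom).obj ((DerSch.stalkCxOver f (g z)).obj P) ≅
      (DerSch.stalkCxOver f' z).obj ((pullCx g).obj P)) := by
  haveI : IsClosedImmersion g := MorphismProperty.of_isPullback hc.flip ‹_›
  let φ := (bcMap hc z).hom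
  let ψ := (f.stalkMap (g z)).hom
  let T := pushout (f.stalkMap (g z)) (bcMap hc z)
  let inl : X.presheaf.stalk (g z) ⟶ T := pushout.inl _ _
  let inr : Y'.presheaf.stalk (f' z) ⟶ T := pushout.inr _ _
  have hT : IsPushout (f.stalkMap (g z)) (bcMap hc z) inl inr := IsPushout.of_hasPushout _ _
  let σ : T ⟶ X'.presheaf.stalk z := pushout.desc (g.stalkMap z) (f'.stalkMap z) (bcMap_comm hc z)
  have hl : inl ≫ σ = g.stalkMap z := pushout.inl_desc _ _ _
  have hr : inr ≫ σ = f'.stalkMap z := pushout.inr_desc _ _ _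
  have hl' : σ.hom.comp inl.hom = (g.stalkMap z).hom := congrArg CommRingCat.Hom.hom hl
  have hr' : σ.hom.comp inr.hom = (f'.stalkMap z).hom := congrArg CommRingCat.Hom.hom hr
  have hp : Function.Surjective inl.hom := by
    letI := ψ.toAlgebra
    letI := φ.toAlgebra
    letI := inl.hom.toAlgebra
    letI := inr.hom.toAlgebra
    letI : Algebra (Y.presheaf.stalk (f (g z))) T := (inl.hom.comp ψ).toAlgebra
    haveI : IsScalarTower (Y.presheaf.stalk (f (g z))) (X.presheaf.stalk (g z)) T :=
      IsScalarTower.of_algebraMap_eq fun _ => rfl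
    haveI : IsScalarTower (Y.presheaf.stalk (f (g z))) (Y'.presheaf.stalk (f' z)) T :=
      IsScalarTower.of_algebraMap_eq fun r => congrArg (fun q => q.hom r) hT.w
    haveI hpo : Algebra.IsPushout (Y.presheaf.stalk (f (g z))) (X.presheaf.stalk (g z))
        (Y'.presheaf.stalk (f' z)) T := CommRingCat.isPushout_iff_isPushout.1 hT
    intro t
    induction t using hpo.out.inductionOn with
    | zero => exact ⟨0, map_zero _⟩
    | tmul b =>
      obtain ⟨r, rfl⟩ := surjective_bcMap hc z b
      exact ⟨ψ r, congrArg (fun q => q.hom r) hT.w⟩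
    | smul c n hn =>
      obtain ⟨x, rfl⟩ := hn
      exact ⟨c * x, (map_mul inl.hom c x).trans (Algebra.smul_def c (inl.hom x)).symm⟩
    | add x y hx hy =>
      obtain ⟨x, rfl⟩ := hx
      obtain ⟨y, rfl⟩ := hy
      exact ⟨x + y, map_add _ _ _⟩
  have hσf := flat_of_pushout_stalk hc z (bcMap_fromSpecStalk hc z) hT hl hr
  haveI : IsLocalHom (σ.hom.comp inl.hom) := hl' ▸ inferInstanceAs (IsLocalHom (g.stalkMap z).hom)
  have hσ : Function.Bijective σ.hom := bijective_of_flat_surjective inl.hom σ.hom hp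
    (hl' ▸ g.stalkMap_surjective z) hσf
  let S := (stalkCx (g z)).obj P
  haveI := isIso_sqCx_of_isSquare (ρ := φ) (α := inl.hom) (φ' := inr.hom) hT S
  refine ⟨(?_ : (DRingLTensor.extC' φ).obj ((DTen.resCx ψ).obj S) ≅
      (DerSch.stalkCxOver f' z).obj ((pullCx g).obj P))⟩
  exact
    @asIso _ _ _ _ (sqCx (IsSquare.comm (ρ := φ) (α := inl.hom) (φ' := inr.hom) hT) S) inferInstance ≪≫
      (DRing.restrictCx inr.hom).mapIso (resExtIso σ.hom hσ _ ≪≫ (DRing.restrictCx σ.hom).mapIso
        ((extCompIso inl.hom σ.hom S).symm ≪≫ eqToIso (by rw [hl']) ≪≫ (stalkPullCxIso g z P).symm)) ≪≫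
      HomologicalComplex.Hom.isoOfComponents
        (fun i => ((ModuleCat.restrictScalarsComp' inr.hom σ.hom (f'.stalkMap z).hom hr'.symm).app
          (((stalkCx z).obj ((pullCx g).obj P)).X i)).symm)
        fun i j _ => ((ModuleCat.restrictScalarsComp' inr.hom σ.hom (f'.stalkMap z).hom hr'.symm).inv.naturality
          (((stalkCx z).obj ((pullCx g).obj P)).d i j)).symm

/-- Tor amplitude descends along a nilpotent closed immersion of the base. -/
theorem torAmplitudeAt_of_thick [Flat f] [IsClosedImmersion h]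
    (hn : ∀ y, IsNilpotent (RingHom.ker (h.stalkMap y).hom))
    (hc : IsPullback g f' f h) {P : CochainComplex X.Modules ℤ} (hP : DCoh.IsKFlat P)
    (hf : ∀ n, FlatMod.IsFlat (P.X n)) {a b : ℤ} (z : X')
    (ha : DerSch.HasTorAmplitudeAt f' a b ((pullCx g).obj P) z) :
    DerSch.HasTorAmplitudeAt f a b P (g z) := by
  let φ := (bcMap hc z).hom
  let ψ := (f.stalkMap (g z)).hom
  let S := (stalkCx (g z)).obj P
  let R := (DTen.resCx ψ).obj S
  obtain ⟨e⟩ := nonempty_extend_stalk_iso hc P z
  have hψ : ψ.Flat := Flat.stalkMap f (g z)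
  have hRK : DRingLTensor.IsKF R := isKF_restrict_of_flat hψ ((kFlat_iff_stalk P).1 hP (g z))
  have hRf : ∀ n, Module.Flat (Y.presheaf.stalk (f (g z))) (R.X n) := fun n =>
    haveI : Module.Flat (X.presheaf.stalk (g z)) (S.X n) := hf n (g z)
    flat_restrict hψ (S.X n)
  have hV := (DRingTor.iff_van (KFlatLib.kFlat_extendScalars φ hRK)
    (Iso.refl _)).1 (DRingTor.of_iso (DerivedCategory.Q.mapIso e.symm) ha)
  obtain ⟨k, hk⟩ := isNilpotent_ker_bcMap hn hc z
  refine DRingTor.hasTorAmplitudeIn_of_van hRK (fun M i hi => ?_) (Iso.refl _)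
  refine DRingNilp.exactAt_of_pow φ (surjective_bcMap hc z) hRf i (fun N => hV N i hi) k M fun r hr x => ?_
  rw [hk] at hr
  rw [show r = 0 from hr, zero_smul]

/-- Relative perfectness descends along a nilpotent thickening of the base. -/
theorem locFiniteTorAmplitude_of_thick [Flat f] [IsClosedImmersion h]
    (hn : ∀ y, IsNilpotent (RingHom.ker (h.stalkMap y).hom))
    (hc : IsPullback g f' f h) (hg : NilImm g) [DCoh.HasLpull g] {K : DCoh.D X}
    {F : CochainComplex X'.Modules ℤ} (e : DCoh.toD X' F ≅ (DCoh.Lpull g).obj K)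
    (hF : DerSch.LocFiniteTorAmplitude f' F) : DerSch.LocFiniteTorAmplitudeD f K := by
  rintro F' ⟨eF'⟩ x
  obtain ⟨z, rfl⟩ := hg.surjective x
  haveI := hg.closed
  obtain ⟨D, a, b, hzD, hD⟩ := hF z
  obtain ⟨V, hzV, rfl⟩ := KSix54.exists_preimage_eq g D hzD
  let P := (kRes X).obj F'
  let eP : DCoh.toD X P ≅ DCoh.toD X F' := (resQIso X).app F'
  refine ⟨V, a, b, hzV, fun x' hx' => KSix54.torAmplitudeAt_congr f eP ?_⟩
  obtain ⟨z', rfl⟩ := hg.surjective x'
  exact torAmplitudeAt_of_thick hn hc (isKFlat_kRes _) (isFlat_kRes _) z'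
    (KSix54.torAmplitudeAt_congr f' (e ≪≫ (DCoh.Lpull g).mapIso (eF'.symm ≪≫ eP.symm) ≪≫
      lpullIso g (isKFlat_kRes _)) (hD z' hx'))

end Groth.Agent.FlatMor3.Thick
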