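import Groth.Agent.FlatMor3.Thick.UnitEpi
import Groth.Agent.KSix54.PCI.Comp
import Groth.Agent.KFlatLib.Scheme.Amplitude
import Groth.Agent.H23.PullPush

/-!
# Pseudo-coherence descends along nilpotent immersions
-/

set_option linter.style.haveILetI false
set_option backward.isDefEq.respectTransparency false
set_option backward.isDefEq.respectTransparency.types false

universe u

open CategoryTheory CategoryTheory.Limits AlgebraicGeometry CategoryTheory.Pretriangulated

attribute [local instance] HasDerivedCategory.standard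

namespace Groth.Agent.FlatMor3.Thick

open Groth.Agent.KFlatLib Groth.Agent.KSix54

variable {X X' : Scheme.{u}} {i : X ⟶ X'}

/-- Pullback commutes with restriction, on complexes in the derived category. -/
noncomputable def pullRestrictQ (i : X ⟶ X') (W : X'.Opens) (P : CochainComplex X'.Modules ℤ) :
    DerivedCategory.Q.obj ((pullCx (i ∣_ W)).obj ((rCx W.ι).obj P)) ≅
      (rho (i ⁻¹ᵁ W).ι).obj (DerivedCategory.Q.obj ((pullCx i).obj P)) :=
  DerivedCategory.Q.mapIso (HomologicalComplex.Hom.isoOfComponents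
      (C₂ := (rCx (i ⁻¹ᵁ W).ι).obj ((pullCx i).obj P))
      (fun n => (H23.PullPush.pullRestrictIso i W).app (P.X n))
      (fun k l _ => ((H23.PullPush.pullRestrictIso i W).hom.naturality (P.d k l)).symm)) ≪≫
    ((rhoQ (i ⁻¹ᵁ W).ι).app ((pullCx i).obj P)).symm

/-- Generators of the pullback of a quotient lift locally. -/
lemma exists_top_map (hi : NilImm i) {G H : X'.Modules} (π : G ⟶ H) [Epi π] {n : ℕ}
    (q : FlatMod.freeMod X n ⟶ (Scheme.Modules.pullback i).obj H) [Epi q] (y : X') :
    ∃ (W : X'.Opens) (l : (FlatMod.freeMod X' n).restrict W.ι ⟶ G.restrict W.ι), y ∈ W ∧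
      Epi (l ≫ (Scheme.Modules.restrictFunctor W.ι).map π) := by
  let adj := Scheme.Modules.pullbackPushforwardAdjunction i
  let Z := (Scheme.Modules.pullback i).obj H
  let g : FlatMod.freeMod X' n ⟶ (Scheme.Modules.pushforward i).obj Z :=
    adj.homEquiv _ _ ((pullFreeIso i n).hom ≫ q)
  haveI := epi_unit hi H
  obtain ⟨W, l, hy, hl⟩ := exists_lift (isFinLocFree_freeMod n) (π ≫ adj.unit.app H) g y
  refine ⟨W, l, hy, ?_⟩
  haveI := (hi.restrict W).closed
  let R := Scheme.Modules.restrictFunctor W.ι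
  let R' := Scheme.Modules.restrictFunctor (i ⁻¹ᵁ W).ι
  let F := Scheme.Modules.pullback (i ∣_ W)
  let c := H23.PullPush.pullRestrictIso i W
  have n₁ : F.map (R.map (adj.unit.app H)) ≫ c.hom.app _ =
      c.hom.app H ≫ R'.map ((Scheme.Modules.pullback i).map (adj.unit.app H)) :=
    c.hom.naturality (adj.unit.app H)
  have n₂ : F.map (R.map g) ≫ c.hom.app _ = c.hom.app _ ≫ R'.map ((Scheme.Modules.pullback i).map g) :=
    c.hom.naturality g
  have t₁ : (Scheme.Modules.pullback i).map (adj.unit.app H) ≫ adj.counit.app Z = 𝟙 Z :=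
    adj.left_triangle_components H
  have t₂ : (Scheme.Modules.pullback i).map g ≫ adj.counit.app Z = (pullFreeIso i n).hom ≫ q := by
    exact (adj.homEquiv_counit _ _ g).symm.trans ((adj.homEquiv _ _).symm_apply_apply _)
  have key : F.map (l ≫ R.map π) ≫ c.hom.app H =
      c.hom.app _ ≫ R'.map ((pullFreeIso i n).hom ≫ q) := by
    calc F.map (l ≫ R.map π) ≫ c.hom.app H
        = F.map (l ≫ R.map π) ≫ (c.hom.app H ≫ R'.map ((Scheme.Modules.pullback i).map (adj.unit.app H))) ≫
            R'.map (adj.counit.app Z) := by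
          rw [Category.assoc, ← R'.map_comp, t₁, CategoryTheory.Functor.map_id]
          erw [Category.comp_id]
      _ = F.map (R.map g) ≫ c.hom.app _ ≫ R'.map (adj.counit.app Z) := by
          rw [← n₁, ← hl]
          simp only [Functor.map_comp, Category.assoc]
          rfl
      _ = _ := by rw [reassoc_of% n₂, ← R'.map_comp, t₂]
  haveI : Epi (F.map (l ≫ R.map π) ≫ c.hom.app H) := key ▸ epi_comp' inferInstance
    (inferInstanceAs (Epi (R'.map ((pullFreeIso i n).hom ≫ q))))
  haveI : Epi (F.map (l ≫ R.map π)) := by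
    have : F.map (l ≫ R.map π) = (F.map (l ≫ R.map π) ≫ c.hom.app H) ≫ inv (c.hom.app H) := by
      rw [Category.assoc, IsIso.hom_inv_id]
      exact (Category.comp_id _).symm
    rw [this]
    exact epi_comp' inferInstance inferInstance
  exact epi_of_epi_pullback (hi.restrict W) _

variable (i) in
/-- The top cohomology of a pullback. -/
noncomputable def topIso (P : CochainComplex X'.Modules ℤ) (b : ℤ) (hP : ∀ j, b < j → IsZero (P.X j)) :
    (Scheme.Modules.pullback i).obj (P.opcycles b) ≅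
      DCoh.HD (DerivedCategory.Q.obj ((pullCx i).obj P)) b :=
  let L := (pullCx i).obj P
  haveI : PreservesColimitsOfSize.{0, 0} (Scheme.Modules.pullback i) :=
    (Scheme.Modules.pullbackPushforwardAdjunction i).leftAdjoint_preservesColimits
  haveI : IsIso (L.homologyι b) := L.isIso_homologyι b (b + 1) (by simp)
    (((Scheme.Modules.pullback i).map_isZero (hP (b + 1) (by omega))).eq_of_tgt _ _)
  (Scheme.Modules.pullback i).mapIso (IsColimit.coconePointUniqueUpToIso
      (P.opcyclesIsCokernel (b - 1) b (by simp)) (cokernelIsCokernel (P.d (b - 1) b))) ≪≫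
    PreservesCokernel.iso (Scheme.Modules.pullback i) (P.d (b - 1) b) ≪≫
    IsColimit.coconePointUniqueUpToIso (colimit.isColimit (parallelPair ((Scheme.Modules.pullback i).map (P.d (b - 1) b)) 0))
      (L.opcyclesIsCokernel (b - 1) b (by simp)) ≪≫
    (asIso (L.homologyι b)).symm ≪≫ ((DerivedCategory.homologyFunctorFactors _ b).app L).symm

lemma isStrictlyPerfect_single_b {M : X.Modules} (hM : FlatMod.IsFinLocFree M) (b : ℤ) :
    DCoh.IsStrictlyPerfect ((HomologicalComplex.single X.Modules (ComplexShape.up ℤ) b).obj M) :=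
  ⟨⟨b, b, fun j hj => HomologicalComplex.isZero_single_obj_X (ComplexShape.up ℤ) b M j (by omega)⟩,
    fun j => by
      rcases eq_or_ne j b with rfl | hj
      · exact H23.PullPush.isFinLocFree_of_iso
          (HomologicalComplex.singleObjXSelf (ComplexShape.up ℤ) j M).symm hM
      · exact isFinLocFree_of_isZero
          (HomologicalComplex.isZero_single_obj_X (ComplexShape.up ℤ) b M j hj)⟩

lemma locPC_of_isStrictlyPerfect {S : CochainComplex X.Modules ℤ} (h : DCoh.IsStrictlyPerfect S)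
    (m : ℤ) : LocPC m (DerivedCategory.Q.obj S) := fun y =>
  ⟨_, 𝟙 _, inferInstance, ⟨y, rfl⟩, _, ((rhoQ (𝟙 _)).app S).inv, isStrictlyPerfect_restrict _ h,
    isPcMap_of_isIso m _⟩

/-- A lift of generators of the top cohomology is an isomorphism above, an epimorphism in, degree `b`. -/
lemma exists_single_map {W : X'.Opens} (P : CochainComplex X'.Modules ℤ) (b : ℤ)
    (hP : ∀ j, b < j → IsZero (P.X j)) {F : (W : Scheme.{u}).Modules} (hF : FlatMod.IsFinLocFree F)
    (l : F ⟶ (P.X b).restrict W.ι)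
    (hl : Epi (l ≫ (Scheme.Modules.restrictFunctor W.ι).map (P.pOpcycles b))) :
    ∃ (S : CochainComplex (W : Scheme.{u}).Modules ℤ) (φ : S ⟶ (rCx W.ι).obj P),
      DCoh.IsStrictlyPerfect S ∧ (∀ j, b < j → IsZero (S.X j)) ∧
        IsPcMap b (DerivedCategory.Q.map φ) := by
  let R := Scheme.Modules.restrictFunctor W.ι
  let G' := (rCx W.ι).obj P
  let S := (HomologicalComplex.single _ (ComplexShape.up ℤ) b).obj F
  let φ : S ⟶ G' := HomologicalComplex.mkHomFromSingle l fun j hj => by
    have hj' : b + 1 = j := hj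
    exact (R.map_isZero (hP j (by omega))).eq_of_tgt _ _
  refine ⟨S, φ, isStrictlyPerfect_single_b hF b, fun j hj =>
    HomologicalComplex.isZero_single_obj_X (ComplexShape.up ℤ) b F j (by omega), ?_⟩
  have hG'z : ∀ j, b < j → IsZero (G'.X j) := fun j hj => R.map_isZero (hP j hj)
  refine isPcMap_of_homologyMap b φ (fun j hj => ?_) ?_
  · have h1 : IsZero (S.homology j) := ShortComplex.isZero_homology_of_isZero_X₂ _
      (HomologicalComplex.isZero_single_obj_X (ComplexShape.up ℤ) b F j (by omega))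
    have h2 : IsZero (G'.homology j) := ShortComplex.isZero_homology_of_isZero_X₂ _ (hG'z j hj)
    exact ⟨0, h1.eq_of_src _ _, h2.eq_of_src _ _⟩
  · haveI : IsIso (G'.homologyι b) := G'.isIso_homologyι b (b + 1) (by simp)
      ((hG'z (b + 1) (by omega)).eq_of_tgt _ _)
    have hd : P.d (b - 1) b ≫ P.pOpcycles b = 0 := P.d_pOpcycles (b - 1) b
    haveI : Epi (R.map (P.pOpcycles b)) := inferInstance
    have hex : ((ShortComplex.mk _ _ hd).map R).Exact :=
      (ShortComplex.exact_of_g_is_cokernel (ShortComplex.mk _ _ hd)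
        (P.opcyclesIsCokernel (b - 1) b (by simp))).map R
    haveI hlp : Epi (φ.f b ≫ G'.pOpcycles b) := by
      refine Preadditive.epi_of_cancel_zero _ fun {Z} z hz => ?_
      haveI : Epi (((ShortComplex.mk _ _ hd).map R).g) := inferInstanceAs (Epi (R.map (P.pOpcycles b)))
      obtain ⟨w, hw⟩ : ∃ w, R.map (P.pOpcycles b) ≫ w = G'.pOpcycles b ≫ z :=
        ⟨hex.desc _ (show G'.d (b - 1) b ≫ G'.pOpcycles b ≫ z = 0 by
          rw [G'.d_pOpcycles_assoc, zero_comp]), hex.g_desc _ _⟩
      have hφb : φ.f b = (HomologicalComplex.singleObjXSelf (ComplexShape.up ℤ) b F).hom ≫ l := by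
        simp [φ, HomologicalComplex.mkHomFromSingle_f]
      rw [hφb, Category.assoc, Category.assoc, ← hw, ← Category.assoc l] at hz
      have hw0 : w = 0 := by
        rw [← cancel_epi (l ≫ R.map (P.pOpcycles b)), comp_zero, ← cancel_epi
          (HomologicalComplex.singleObjXSelf (ComplexShape.up ℤ) b F).hom, comp_zero]
        exact hz
      rw [← cancel_epi (G'.pOpcycles b), comp_zero, ← hw, hw0, comp_zero]
    haveI : Epi (HomologicalComplex.opcyclesMap φ b) :=
      epi_of_epi_fac (HomologicalComplex.p_opcyclesMap φ b)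
    haveI : IsIso (S.homologyι b) := S.isIso_homologyι b (b + 1) (by simp)
      ((HomologicalComplex.isZero_single_obj_X (ComplexShape.up ℤ) b F (b + 1) (by omega)).eq_of_tgt _ _)
    have hh : HomologicalComplex.homologyMap φ b =
        S.homologyι b ≫ HomologicalComplex.opcyclesMap φ b ≫ inv (G'.homologyι b) := by
      rw [← cancel_mono (G'.homologyι b)]
      simp
    rw [hh]
    exact epi_comp' inferInstance (epi_comp' inferInstance inferInstance)

lemma locPC_of_pull_aux (M : ℤ) (d : ℕ) : ∀ {X X' : Scheme.{u}} {i : X ⟶ X'}, NilImm i →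
    ∀ (b : ℤ) (P : CochainComplex X'.Modules ℤ), (∀ j, b < j → IsZero (P.X j)) →
    (∀ n, FlatMod.IsFlat (P.X n)) → b < M + d →
    LocPC M (DerivedCategory.Q.obj ((pullCx i).obj P)) → LocPC M (DerivedCategory.Q.obj P) := by
  induction d with
  | zero =>
    intro X X' i _ b P hP _ hb _
    exact locPC_of_isZero M _ fun j hj =>
      (ShortComplex.isZero_homology_of_isZero_X₂ (P.sc j) (hP j (by omega)) :
        IsZero (P.homology j)).of_iso ((DerivedCategory.homologyFunctorFactors _ j).app P)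
  | succ d ih =>
    intro X X' i hi b P hP hf hbd hK
    rcases lt_or_ge b M with hb | hb
    · exact locPC_of_isZero M _ fun j hj =>
        (ShortComplex.isZero_homology_of_isZero_X₂ (P.sc j) (hP j (by omega)) :
          IsZero (P.homology j)).of_iso ((DerivedCategory.homologyFunctorFactors _ j).app P)
    refine LocPC.of_local fun y => ?_
    obtain ⟨x, rfl⟩ := hi.surjective y
    haveI := hi.closed
    have hft : CohB1.IsFT (DCoh.HD (DerivedCategory.Q.obj ((pullCx i).obj P)) b) :=
      isFT_top (hK.mono hb) fun j hj =>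
        (ShortComplex.isZero_homology_of_isZero_X₂ (((pullCx i).obj P).sc j)
          ((Scheme.Modules.pullback i).map_isZero (hP j hj)) :
          IsZero (((pullCx i).obj P).homology j)).of_iso
          ((DerivedCategory.homologyFunctorFactors _ j).app _)
    obtain ⟨D, n, q₀, hxD, hq₀⟩ := exists_epi_free_of_isFT hft x
    obtain ⟨V, hxV, rfl⟩ := exists_preimage_eq i D hxD
    have hi₁ := hi.restrict V
    let P₁ := (rCx V.ι).obj P
    have hP₁ : ∀ j, b < j → IsZero (P₁.X j) := fun j hj =>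
      (Scheme.Modules.restrictFunctor V.ι).map_isZero (hP j hj)
    let e₁ := pullRestrictQ i V P
    let q : FlatMod.freeMod ((i ⁻¹ᵁ V : X.Opens) : Scheme.{u}) n ⟶
        (Scheme.Modules.pullback (i ∣_ V)).obj (P₁.opcycles b) :=
      q₀ ≫ ((hdRhoIso (i ⁻¹ᵁ V).ι _ b).symm ≪≫ (DerivedCategory.homologyFunctor _ b).mapIso e₁.symm ≪≫
        (topIso (i ∣_ V) P₁ b hP₁).symm).hom
    haveI : Epi q := @epi_comp _ _ _ _ _ q₀ hq₀ _ inferInstance
    obtain ⟨W, l, hyW, hl⟩ := exists_top_map hi₁ (P₁.pOpcycles b) q ⟨i.base x, hxV⟩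
    obtain ⟨S, φ, hS, hSz, hφ⟩ := exists_single_map P₁ b hP₁
      (isFinLocFree_restrict W (isFinLocFree_freeMod n)) l hl
    have hi₂ := hi₁.restrict W
    let P₂ := (rCx W.ι).obj P₁
    have hf₂ : ∀ j, FlatMod.IsFlat (P₂.X j) := fun j =>
      IsFlat.of_iso ((Scheme.Modules.restrictFunctorIsoPullback W.ι).app _).symm (isFlat_pullback W.ι
        (IsFlat.of_iso ((Scheme.Modules.restrictFunctorIsoPullback V.ι).app _).symm
          (isFlat_pullback V.ι (hf j))))
    have hP₂ : ∀ j, b < j → IsZero (P₂.X j) := fun j hj =>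
      (Scheme.Modules.restrictFunctor W.ι).map_isZero (hP₁ j hj)
    have hK₂ : LocPC M (DerivedCategory.Q.obj ((pullCx (i ∣_ V ∣_ W)).obj P₂)) :=
      LocPC.of_iso (pullRestrictQ (i ∣_ V) W P₁).symm
        (LocPC.restrict (LocPC.of_iso e₁.symm (LocPC.restrict hK _)) _)
    let C := CochainComplex.mappingCone φ
    have eC : ∀ j : ℤ, C.X j ≅ S.X (j + 1) ⊞ P₂.X j := fun j =>
      HomologicalComplex.homotopyCofiber.XIsoBiprod φ j (j + 1) rfl
    have hCz : ∀ j, b < j → IsZero (C.X j) := fun j hj =>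
      IsZero.of_iso ((biprod_isZero_iff _ _).2 ⟨hSz (j + 1) (by omega), hP₂ j hj⟩) (eC j)
    have hCf : ∀ j, FlatMod.IsFlat (C.X j) := fun j =>
      IsFlat.of_iso (eC j).symm (IsFlat.biprod (isFlat_of_isFinLocFree (hS.2 _)) (hf₂ j))
    obtain ⟨R, ρ, hρ, hRf, hRz⟩ := (flatCover (W : Scheme.{u})).exists_bounded_resolution C (b - 1)
      fun j hj => (isPcMap_iff_cone b φ).1 hφ j (by omega)
    haveI := hρ
    haveI := isIso_Q_map ρ hρ
    have hRK : DCoh.IsKFlat R :=
      haveI : R.IsStrictlyLE (b - 1) := (CochainComplex.isStrictlyLE_iff _ _).2 hRz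
      isKFlat_of_isStrictlyLE R (b - 1) hRf
    have hCK : DCoh.IsKFlat C :=
      haveI : C.IsStrictlyLE b := (CochainComplex.isStrictlyLE_iff _ _).2 hCz
      isKFlat_of_isStrictlyLE C b hCf
    haveI := quasiIso_pullback (i ∣_ V ∣_ W) ρ hRK hCK
    haveI := isIso_Q_map ((pullCx (i ∣_ V ∣_ W)).map ρ) inferInstance
    let f := (pullCx (i ∣_ V ∣_ W)).map φ
    let T : Triangle (DCoh.D _) :=
      DerivedCategory.Q.mapTriangle.obj (CochainComplex.mappingCone.triangle f)
    have hT : T ∈ distinguishedTriangles :=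
      (DerivedCategory.mem_distTriang_iff T).2 ⟨_, _, f, ⟨Iso.refl _⟩⟩
    have hR : LocPC M (DerivedCategory.Q.obj R) :=
      ih hi₂ (b - 1) R hRz hRf (by push_cast at hbd; omega) (LocPC.of_iso
        (DerivedCategory.Q.mapIso
            (CochainComplex.mappingCone.mapHomologicalComplexIso φ (Scheme.Modules.pullback (i ∣_ V ∣_ W))).symm ≪≫
          (asIso (DerivedCategory.Q.map ((pullCx (i ∣_ V ∣_ W)).map ρ))).symm)
        ((locPC_two_of_three M T hT).1
          (locPC_of_isStrictlyPerfect (isStrictlyPerfect_pullback _ hS) (M + 1)) hK₂))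
    let T' : Triangle (DCoh.D _) :=
      DerivedCategory.Q.mapTriangle.obj (CochainComplex.mappingCone.triangle φ)
    have hT' : T' ∈ distinguishedTriangles :=
      (DerivedCategory.mem_distTriang_iff T').2 ⟨_, _, φ, ⟨Iso.refl _⟩⟩
    have hP₂pc : LocPC M (DerivedCategory.Q.obj P₂) :=
      (locPC_two_of_three M T' hT').2.1 (locPC_of_isStrictlyPerfect hS M)
        (LocPC.of_iso (asIso (DerivedCategory.Q.map ρ)) hR)
    exact ⟨_, W.ι ≫ V.ι, inferInstance, ⟨⟨⟨i.base x, hxV⟩, hyW⟩, rfl⟩,
      LocPC.of_iso (((rhoQ W.ι).app P₁).symm ≪≫ (rho W.ι).mapIso ((rhoQ V.ι).app P).symm ≪≫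
        rhoComp W.ι V.ι _ rfl _) hP₂pc⟩

/-- Pseudo-coherence descends from the pullback of a K-flat complex of flat modules. -/
theorem locPC_of_pull (hi : NilImm i) {m : ℤ} {P : CochainComplex X'.Modules ℤ}
    (hK : DCoh.IsKFlat P) (hf : ∀ n, FlatMod.IsFlat (P.X n))
    (h : LocPC m (DerivedCategory.Q.obj ((pullCx i).obj P))) : LocPC m (DerivedCategory.Q.obj P) := by
  refine LocPC.of_local fun y => ?_
  obtain ⟨x, rfl⟩ := hi.surjective y
  haveI := hi.closed
  obtain ⟨D, b, hxD, hb⟩ := exists_bound_nhd h x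
  obtain ⟨V, hxV, rfl⟩ := exists_preimage_eq i D hxD
  have hi₁ := hi.restrict V
  let P₁ := (rCx V.ι).obj P
  let e₁ := pullRestrictQ i V P
  have hf₁ : ∀ j, FlatMod.IsFlat (P₁.X j) := fun j =>
    IsFlat.of_iso ((Scheme.Modules.restrictFunctorIsoPullback V.ι).app _).symm (isFlat_pullback V.ι (hf j))
  have hK₁ : DCoh.IsKFlat P₁ :=
    (kFlat_iff_isKFlat.2 (isKFlat_pullback V.ι hK)).of_iso
      (((NatIso.mapHomologicalComplex (Scheme.Modules.restrictFunctorIsoPullback V.ι) _).app P).symm)
  have hpz : ∀ j, b < j → IsZero (((pullCx (i ∣_ V)).obj P₁).homology j) := fun j hj =>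
    ((hb j hj).of_iso ((DerivedCategory.homologyFunctor _ j).mapIso e₁)).of_iso
      ((DerivedCategory.homologyFunctorFactors _ j).app _).symm
  have hz : ∀ j, b < j → IsZero (P₁.homology j) := fun j hj => isZero_of_stalk _ fun y => by
    obtain ⟨x', rfl⟩ := hi₁.surjective y
    exact isZero_stalk_homology hi₁ hf₁ (isKFlat_pullback _ hK₁) x' b
      (fun k hk => (DerSch.stalkFunctor _ x').map_isZero (hpz k hk)) j hj
  obtain ⟨R, ρ, hρ, hRf, hRz⟩ := (flatCover (V : Scheme.{u})).exists_bounded_resolution P₁ b hz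
  haveI := hρ
  haveI := isIso_Q_map ρ hρ
  have hRK : DCoh.IsKFlat R :=
    haveI : R.IsStrictlyLE b := (CochainComplex.isStrictlyLE_iff _ _).2 hRz
    isKFlat_of_isStrictlyLE R b hRf
  haveI := quasiIso_pullback (i ∣_ V) ρ hRK hK₁
  haveI := isIso_Q_map ((pullCx (i ∣_ V)).map ρ) inferInstance
  refine ⟨_, V.ι, inferInstance, ⟨⟨i.base x, hxV⟩, rfl⟩, ?_⟩
  refine LocPC.of_iso (asIso (DerivedCategory.Q.map ρ) ≪≫ ((rhoQ V.ι).app P).symm) ?_
  exact locPC_of_pull_aux m (b + 1 - m).toNat hi₁ b R hRz hRf (by omega)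
    (LocPC.of_iso (e₁.symm ≪≫ (asIso (DerivedCategory.Q.map ((pullCx (i ∣_ V)).map ρ))).symm)
      (LocPC.restrict h _))

/-- Pseudo-coherence descends from the derived pullback along a nilpotent immersion. -/
theorem locPC_of_lpull (hi : NilImm i) [DCoh.HasLpull i] {m : ℤ} {K : DCoh.D X'}
    (h : LocPC m ((DCoh.Lpull i).obj K)) : LocPC m K := by
  let P := (kRes X').obj (DerivedCategory.Q.objPreimage K)
  let e : DerivedCategory.Q.obj P ≅ K := (resQIso X').app _ ≪≫ repIso K
  exact LocPC.of_iso e (locPC_of_pull hi (isKFlat_kRes _) (isFlat_kRes _)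
    (LocPC.of_iso ((DCoh.Lpull i).mapIso e.symm ≪≫ lpullIso i (isKFlat_kRes _)) h))

end Groth.Agent.FlatMor3.Thick
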