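import Groth.Agent.FlatMor3.Thick.Amplitude
import Groth.Agent.KSix54.Spread.Perfect
import Groth.Agent.FlatB12.ValUnivInj
import Mathlib.RingTheory.Flat.Equalizer
import Mathlib.AlgebraicGeometry.Morphisms.FiniteType

/-!
# Tor amplitude of pseudo-coherent complexes is detected on fibres
-/

set_option linter.style.haveILetI false
set_option backward.isDefEq.respectTransparency false
set_option backward.isDefEq.respectTransparency.types false

universe u

open CategoryTheory CategoryTheory.Limits AlgebraicGeometry MonoidalCategory TensorProduct IsLocalRing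

attribute [local instance] HasDerivedCategory.standard

namespace Groth.Agent.FlatMor3.Thick

open Groth.Agent.KFlatLib Groth.Agent.H9Misc Groth.Agent.H9Misc.DRingLTensor

section Ring

variable {A : Type u} [CommRing A]

/-- Tensoring a map which is an isomorphism above `m` with a module. -/
theorem exactAt_tensC_iff_of_pcMap {F T : DRing.Cx A} (hF : IsKF F) (hT : IsKF T)
    (β : DerivedCategory.Q.obj F ⟶ DerivedCategory.Q.obj T) {m : ℤ} (hβ : IsPcMap m β)
    (N : ModuleCat.{u} A) {j : ℤ} (hj : m < j) :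
    ((tensC N).obj F).ExactAt j ↔ ((tensC N).obj T).ExactAt j := by
  obtain ⟨T', g, s, hs, rfl⟩ := DerivedCategory.left_fac β
  haveI := hs
  let R := (ringCover A).P
  let ψ := (ringCover A).ψ
  haveI : ∀ K, IsIso (DerivedCategory.Q.map (ψ.app K)) := fun K =>
    (DerivedCategory.isIso_Q_map_iff_quasiIso _ _).2 ((ringCover A).quasiIso_ψ K)
  let φ := R.map g
  have hn : DerivedCategory.Q.map φ ≫ DerivedCategory.Q.map (ψ.app T') =
      DerivedCategory.Q.map (ψ.app F) ≫ DerivedCategory.Q.map g := by
    rw [← Functor.map_comp, ← Functor.map_comp]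
    exact congrArg _ (ψ.naturality g)
  have hφ : IsPcMap m (DerivedCategory.Q.map φ) := by
    have h1 : DerivedCategory.Q.map φ = DerivedCategory.Q.map (ψ.app F) ≫
        (DerivedCategory.Q.map g ≫ inv (DerivedCategory.Q.map s)) ≫
          (DerivedCategory.Q.map s ≫ inv (DerivedCategory.Q.map (ψ.app T'))) := by
      rw [Category.assoc, IsIso.inv_hom_id_assoc, ← Category.assoc, ← hn]
      simp
    rw [h1]
    exact hβ.comp_iso _ _
  let L := (tensC N).obj (CochainComplex.mappingCone φ)
  have hz : ∀ i, m ≤ i → IsZero (L.homology i) := fun i hi => by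
    refine (isZero_homology_tensorLeft (kFlat_cone (T := curriedTensor (ModuleCat.{u} A)) φ
      (kFlat_ringRes F) (kFlat_ringRes T')) (b := m - 1)
      (fun k hk => (isPcMap_iff_cone m φ).1 hφ k (by omega)) N i (by omega)).of_iso
      ((HomologicalComplex.homologyFunctor _ _ i).mapIso
        ((NatIso.mapHomologicalComplex (BraidedCategory.tensorLeftIsoTensorRight N).symm _).app _))
  have hφN : IsPcMap m (DerivedCategory.Q.map ((tensC N).map φ)) :=
    (isPcMap_iff_cone m _).2 fun i hi => (hz i hi).of_iso ((HomologicalComplex.homologyFunctor _ _ i).mapIso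
      (CochainComplex.mappingCone.mapHomologicalComplexIso φ (tensorRight N))).symm
  haveI := hφN.1 j hj
  haveI := DRingTor.hasLTensor N
  have hF' := (DRingTor.exactAt_tensC_iff N hF
    (asIso (DerivedCategory.Q.map (ψ.app F))).symm j).symm.trans
      (DRingTor.exactAt_tensC_iff N (kFlat_ringRes F) (Iso.refl _) j)
  have hT' := (DRingTor.exactAt_tensC_iff N hT
    (asIso (DerivedCategory.Q.map s) ≪≫ (asIso (DerivedCategory.Q.map (ψ.app T'))).symm) j).symm.trans
      (DRingTor.exactAt_tensC_iff N (kFlat_ringRes T') (Iso.refl _) j)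
  rw [hF', hT', HomologicalComplex.exactAt_iff_isZero_homology, HomologicalComplex.exactAt_iff_isZero_homology]
  exact Iso.isZero_iff (((DerivedCategory.homologyFunctorFactors _ j).app _).symm ≪≫
    asIso ((DerivedCategory.homologyFunctor _ j).map (DerivedCategory.Q.map ((tensC N).map φ))) ≪≫
    (DerivedCategory.homologyFunctorFactors _ j).app _)

end Ring

section Module

variable {A C : Type u} [CommRing A] [IsLocalRing A] [CommRing C] [IsLocalRing C] [Algebra A C]
  [IsLocalHom (algebraMap A C)] [Algebra.EssFiniteType A C]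
  {M₀ M₁ M₂ : Type u} [AddCommGroup M₀] [Module C M₀] [Module A M₀] [IsScalarTower A C M₀]
  [AddCommGroup M₁] [Module C M₁] [Module A M₁] [IsScalarTower A C M₁] [Module.Finite C M₁]
  [AddCommGroup M₂] [Module C M₂] [Module A M₂] [IsScalarTower A C M₂] [Module.Flat A M₂]

/-- A sequence of finite modules over an essentially finite type algebra which is exact on the closed fibre is
universally exact, when the last module is flat over the base. -/
theorem exact_rTensor_of_fibre (f : M₀ →ₗ[C] M₁) (g : M₁ →ₗ[C] M₂) (hfg : g ∘ₗ f = 0)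
    (h : Function.Exact ((f.restrictScalars A).rTensor (A ⧸ maximalIdeal A))
      ((g.restrictScalars A).rTensor (A ⧸ maximalIdeal A)))
    (N : Type u) [AddCommGroup N] [Module A N] :
    Function.Exact ((f.restrictScalars A).rTensor N) ((g.restrictScalars A).rTensor N) := by
  let I := maximalIdeal A
  let π : M₁ →ₗ[C] (M₁ ⧸ LinearMap.range f) := (LinearMap.range f).mkQ
  let u : (M₁ ⧸ LinearMap.range f) →ₗ[C] M₂ :=
    (LinearMap.range f).liftQ g (LinearMap.range_le_ker_iff.2 hfg)
  have hz : ∀ {M : Type u} [AddCommGroup M] [Module A M] (v : M),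
      v ⊗ₜ[A] (1 : A ⧸ I) = 0 ↔ v ∈ (I • ⊤ : Submodule A M) := by
    intro M _ _ v
    rw [← (TensorProduct.tensorQuotEquivQuotSMul M I).map_eq_zero_iff, ← map_one (Ideal.Quotient.mk I),
      TensorProduct.tensorQuotEquivQuotSMul_tmul_mk, one_smul, Submodule.Quotient.mk_eq_zero]
  have hu : ∀ n, u n ∈ (I • ⊤ : Submodule A M₂) → n ∈ (I • ⊤ : Submodule A (M₁ ⧸ LinearMap.range f)) := by
    intro n hn
    obtain ⟨v, rfl⟩ := (LinearMap.range f).mkQ_surjective n
    obtain ⟨w, hw⟩ := (h (v ⊗ₜ[A] (1 : A ⧸ I))).1 (by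
      rw [LinearMap.rTensor_tmul]
      exact (hz _).2 hn)
    obtain ⟨w₀, rfl⟩ : ∃ w₀ : M₀, w₀ ⊗ₜ[A] (1 : A ⧸ I) = w := by
      obtain ⟨q, hq⟩ := Submodule.mkQ_surjective _ (TensorProduct.tensorQuotEquivQuotSMul M₀ I w)
      refine ⟨q, ?_⟩
      rw [← TensorProduct.tensorQuotEquivQuotSMul_symm_mk]
      exact (TensorProduct.tensorQuotEquivQuotSMul M₀ I).symm_apply_eq.2 hq
    rw [LinearMap.rTensor_tmul] at hw
    have h1 : v - f w₀ ∈ (I • ⊤ : Submodule A M₁) := by
      rw [← hz, TensorProduct.sub_tmul, ← hw]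
      exact sub_self _
    have h2 : π v = π (v - f w₀) := by
      rw [map_sub, show π (f w₀) = 0 from (Submodule.Quotient.mk_eq_zero _).2 ⟨w₀, rfl⟩, sub_zero]
    show π v ∈ _
    rw [h2]
    refine Submodule.smul_mono le_rfl le_top (?_ : _ ∈ I • Submodule.map (π.restrictScalars A) ⊤)
    rw [← Submodule.map_smul'']
    exact Submodule.mem_map_of_mem h1
  obtain ⟨hinj, hflat⟩ := FlatB12.injective_and_flat_coker (A := A) u hu
  let uA := u.restrictScalars A
  have hex : Function.Exact uA ((LinearMap.range u).mkQ.restrictScalars A) :=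
    LinearMap.exact_map_mkQ_range u
  have hinjN : Function.Injective (uA.rTensor N) := by
    have h1 : Function.Injective (uA.lTensor N) :=
      LinearMap.lTensor_injective_of_exact_of_flat ((LinearMap.range u).mkQ.restrictScalars A)
        (LinearMap.range u).mkQ_surjective uA hinj hex N
    exact (LinearMap.lTensor_inj_iff_rTensor_inj N uA).1 h1
  have hex₁ : Function.Exact ((f.restrictScalars A).rTensor N) ((π.restrictScalars A).rTensor N) :=
    rTensor_exact N (show Function.Exact (f.restrictScalars A) (π.restrictScalars A) from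
      LinearMap.exact_map_mkQ_range f) (LinearMap.range f).mkQ_surjective
  have hcomp : (g.restrictScalars A).rTensor N = uA.rTensor N ∘ₗ (π.restrictScalars A).rTensor N := by
    rw [← LinearMap.rTensor_comp]
    rfl
  rw [hcomp, LinearMap.coe_comp]
  exact fun x => by
    rw [Function.comp_apply, map_eq_zero_iff _ hinjN]
    exact hex₁ x

end Module

section Complex

variable {A C : Type u} [CommRing A] [IsLocalRing A] [CommRing C] [IsLocalRing C]

/-- A complex of finite modules, flat over the base, which is exact on the closed fibre in some degree is universally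
exact there. -/
theorem exactAt_tensC_of_fibre (ψ : A →+* C) [IsLocalHom ψ] (hψ : ψ.Flat) (hess : ψ.EssFiniteType)
    {E : DRing.Cx C} (hfin : ∀ i, Module.Finite C (E.X i)) (hflat : ∀ i, Module.Flat C (E.X i)) (j : ℤ)
    (h : ((tensC (ModuleCat.of A (A ⧸ maximalIdeal A))).obj ((DTen.resCx ψ).obj E)).ExactAt j)
    (N : ModuleCat.{u} A) : ((tensC N).obj ((DTen.resCx ψ).obj E)).ExactAt j := by
  letI := ψ.toAlgebra
  haveI : IsLocalHom (algebraMap A C) := inferInstanceAs (IsLocalHom ψ)
  haveI : Algebra.EssFiniteType A C := hess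
  letI : ∀ i, Module A (E.X i) := fun i => Module.compHom (E.X i) ψ
  haveI : ∀ i, IsScalarTower A C (E.X i) := fun i => IsScalarTower.of_algebraMap_smul fun _ _ => rfl
  haveI : Module.Flat A C := hψ
  haveI : ∀ i, Module.Flat A (E.X i) := fun i => haveI := hflat i; Module.Flat.trans A C (E.X i)
  haveI := hfin
  rw [HomologicalComplex.exactAt_iff' _ (j - 1) j (j + 1) (by simp) (by simp),
    ShortComplex.ShortExact.moduleCat_exact_iff_function_exact] at h ⊢
  exact exact_rTensor_of_fibre (A := A) (E.d (j - 1) j).hom (E.d j (j + 1)).hom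
    (congrArg ModuleCat.Hom.hom (E.d_comp_d (j - 1) j (j + 1))) h N

end Complex

variable {X Y : Scheme.{u}} (f : X ⟶ Y)

/-- A pseudo-coherent complex has tor amplitude in `[a, b]` over the base if it does on the fibre. -/
theorem torAmplitudeAt_of_fibre [Flat f] [LocallyOfFiniteType f] {P : CochainComplex X.Modules ℤ}
    (hP : DCoh.IsKFlat P) (hPC : ∀ m, LocPC m (DCoh.toD X P)) (x : X) {a b : ℤ}
    (h : ∀ i, (i < a ∨ b < i) → ((tensC (ModuleCat.of (Y.presheaf.stalk (f.base x))
      (Y.presheaf.stalk (f.base x) ⧸ maximalIdeal (Y.presheaf.stalk (f.base x))))).obj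
        ((DerSch.stalkCxOver f x).obj P)).ExactAt i) :
    DerSch.HasTorAmplitudeAt f a b P x := by
  let ψ := (f.stalkMap x).hom
  have hψ : ψ.Flat := Flat.stalkMap f x
  have hess : ψ.EssFiniteType := LocallyOfFiniteType.stalkMap f x
  let S := (stalkCx x).obj P
  have hR : IsKF ((DTen.resCx ψ).obj S) :=
    KSix54.Pull.isKF_restrict_of_flat hψ ((kFlat_iff_stalk P).1 hP x)
  refine DRingTor.hasTorAmplitudeIn_of_van hR (fun N i hi => ?_) (Iso.refl _)
  obtain ⟨E, a₀, b₀, α, hz, hfree, hα₁, hα₂⟩ := KSix54.Spread.stalk_isPseudoCoherent (hPC (i - 1)) x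
  have hflat : ∀ n, Module.Flat (X.presheaf.stalk x) (E.X n) := fun n =>
    haveI := (hfree n).2
    inferInstance
  have hF : IsKF ((DTen.resCx ψ).obj E) :=
    KSix54.Pull.isKF_restrict_of_flat hψ (DRingTor.isKF_of_flat hflat fun n hn => hz n (Or.inr hn))
  let G := ModuleCat.restrictScalars.{u} ψ
  let β : DerivedCategory.Q.obj ((DTen.resCx ψ).obj E) ⟶ DerivedCategory.Q.obj ((DTen.resCx ψ).obj S) :=
    (G.mapDerivedCategoryFactors.app E).inv ≫ G.mapDerivedCategory.map α ≫
      (G.mapDerivedCategoryFactors.app S).hom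
  have hβ : IsPcMap (i - 1) β :=
    ((show IsPcMap (i - 1) α from ⟨hα₁, hα₂⟩).map_exact G).comp_iso _ _
  refine (exactAt_tensC_iff_of_pcMap hF hR β hβ N (by omega)).1 ?_
  exact exactAt_tensC_of_fibre ψ hψ hess (fun n => (hfree n).1) hflat i
    ((exactAt_tensC_iff_of_pcMap hF hR β hβ _ (by omega)).2 (h i hi)) N

end Groth.Agent.FlatMor3.Thick
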