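import Groth.Agent.FlatMor3.Thick.Fibre
import Groth.Agent.KSix54.Spread.RelPoint
import Groth.Agent.KFlatLib.Scheme.PCQCoh
import Groth.Agent.QCoh.Support

/-!
# Relative perfectness over an ideal in the Jacobson radical
-/

set_option linter.style.haveILetI false
set_option backward.isDefEq.respectTransparency false
set_option backward.isDefEq.respectTransparency.types false

universe u

open CategoryTheory CategoryTheory.Limits AlgebraicGeometry IsLocalRing TopologicalSpace

attribute [local instance] HasDerivedCategory.standard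

namespace Groth.Agent.FlatMor3.Thick

open Groth.Agent.KFlatLib Groth.Agent.H9Misc

variable {X Y : Scheme.{u}}

/-- Tor amplitude at a point bounds the cohomology of the stalk. -/
theorem isZero_stalk_HD_of_torAmplitudeAt (f : X ⟶ Y) {a b : ℤ} {F : CochainComplex X.Modules ℤ} {x : X}
    (h : DerSch.HasTorAmplitudeAt f a b F x) {i : ℤ} (hi : i < a ∨ b < i) :
    IsZero ((DerSch.stalkFunctor X x).obj (DCoh.HD (DCoh.toD X F) i)) := by
  obtain ⟨E, hz, -, ⟨e⟩⟩ := h
  have hS : IsZero (((DerSch.stalkCxOver f x).obj F).homology i) :=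
    (ShortComplex.isZero_homology_of_isZero_X₂ (E.sc i) (hz i hi) :
      IsZero (E.homology i)).of_iso
      (((DerivedCategory.homologyFunctorFactors _ i).app _).symm ≪≫
        (DerivedCategory.homologyFunctor _ i).mapIso e.symm ≪≫
        (DerivedCategory.homologyFunctorFactors _ i).app _)
  have h1 : (((stalkCx x).obj F).sc i).map (ModuleCat.restrictScalars (f.stalkMap x).hom) |>.Exact :=
    (HomologicalComplex.exactAt_iff_isZero_homology _ _).2 hS
  have h2 : (((stalkCx x).obj F).sc i).Exact := (ShortComplex.exact_map_iff_of_faithful _ _).1 h1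
  have h3 := (ShortComplex.exact_iff_isZero_homology _).1 h2
  exact (h3.of_iso ((F.sc i).mapHomologyIso (DerSch.stalkFunctor X x)).symm).of_iso
    ((DerSch.stalkFunctor X x).mapIso ((DerivedCategory.homologyFunctorFactors _ i).app F))

/-- Every point specialises to a closed point in a quasi-compact scheme. -/
theorem exists_closed_specialization [CompactSpace X] (x : X) :
    ∃ x₀ : X, IsClosed ({x₀} : Set X) ∧ x ⤳ x₀ := by
  obtain ⟨x₀, h, hc⟩ := (isClosed_closure (s := ({x} : Set X))).exists_closed_singleton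
    ⟨x, subset_closure rfl⟩
  exact ⟨x₀, hc, specializes_iff_mem_closure.2 h⟩

/-- If tor amplitude holds at the closed points, it holds everywhere. -/
theorem torAmplitude_of_closedPoints [CompactSpace X] (f : X ⟶ Y) [Flat f] [LocallyOfFinitePresentation f]
    {P : CochainComplex X.Modules ℤ} (hPC : ∀ m, LocPC m (DCoh.toD X P)) {a b : ℤ}
    (h : ∀ x : X, IsClosed ({x} : Set X) → DerSch.HasTorAmplitudeAt f a b P x) :
    DerSch.HasTorAmplitude f a b P := by
  have hz : ∀ i, (i < a ∨ b < i) → IsZero (DCoh.HD (DCoh.toD X P) i) := fun i hi => by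
    have hq := isQCoh_HD_of_pseudoCoherent ((isPseudoCoherentD_iff (i - 1) _).2 (hPC (i - 1))) i (by omega)
    refine isZero_of_stalk _ fun x => ?_
    suffices x ∉ CohB1.support (DCoh.HD (DCoh.toD X P) i) from
      haveI : Subsingleton ((DerSch.stalkFunctor X x).obj (DCoh.HD (DCoh.toD X P) i) : Type u) :=
        not_not.1 this
      ModuleCat.isZero_of_subsingleton _
    intro hx
    obtain ⟨x₀, hc, hs⟩ := exists_closed_specialization x
    exact QCoh.stableUnderSpecialization_support hq hs hx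
      (ModuleCat.subsingleton_of_isZero (isZero_stalk_HD_of_torAmplitudeAt f (h x₀ hc) hi))
  haveI : (DCoh.toD X P).IsGE a := (DerivedCategory.isGE_iff _ a).2 fun i hi => hz i (Or.inl hi)
  intro x
  obtain ⟨x₀, hc, hs⟩ := exists_closed_specialization x
  obtain ⟨Z', hx₀, -, hZ'⟩ := KSix54.Spread.exists_flat_model f (hPC (a - 1))
    (fun i hi => hz i (Or.inr hi)) x₀ (h x₀ hc)
  exact hZ' x (hs.mem_open Z'.isOpen hx₀)

variable {X' Y' : Scheme.{u}} {f : X ⟶ Y} {h : Y' ⟶ Y} {g : X' ⟶ X} {f' : X' ⟶ Y'}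

/-- Tor amplitude at a point over a closed subscheme of the base gives tor amplitude over the base. -/
theorem torAmplitudeAt_of_closed [Flat f] [LocallyOfFiniteType f] [IsClosedImmersion h]
    (hc : IsPullback g f' f h) {P : CochainComplex X.Modules ℤ} (hP : DCoh.IsKFlat P)
    (hPC : ∀ m, LocPC m (DCoh.toD X P)) {a b : ℤ} (z : X')
    (ha : DerSch.HasTorAmplitudeAt f' a b ((pullCx g).obj P) z) :
    DerSch.HasTorAmplitudeAt f a b P (g z) := by
  obtain ⟨e⟩ := nonempty_extend_stalk_iso hc P z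
  have hR : DRingLTensor.IsKF ((DTen.resCx (f.stalkMap (g z)).hom).obj ((stalkCx (g z)).obj P)) :=
    KSix54.Pull.isKF_restrict_of_flat (Flat.stalkMap f (g z)) ((kFlat_iff_stalk P).1 hP (g z))
  let φ := (KSix54.Pull.bcMap hc z).hom
  have hV := (DRingTor.iff_van (KFlatLib.kFlat_extendScalars φ hR) (Iso.refl _)).1
    (DRingTor.of_iso (DerivedCategory.Q.mapIso e.symm) ha)
  refine torAmplitudeAt_of_fibre f hP hPC (g z) fun i hi => ?_
  refine DRingNilp.exactAt_of_killed φ (surjective_bcMap hc z) i (fun N => hV N i hi) _ fun r hr x => ?_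
  obtain ⟨s, rfl⟩ := Ideal.Quotient.mk_surjective x
  change Ideal.Quotient.mk _ (r * s) = 0
  exact Ideal.Quotient.eq_zero_iff_mem.2
    (Ideal.mul_mem_right _ _ (IsLocalRing.le_maximalIdeal (RingHom.ker_ne_top φ) hr))

/-- Relative perfectness spreads from a closed subscheme containing all closed points. -/
theorem locFiniteTorAmplitude_of_closed [CompactSpace X] [CompactSpace X'] [Flat f]
    [LocallyOfFinitePresentation f] [IsClosedImmersion h]
    (hc : IsPullback g f' f h) (hsurj : ∀ x : X, IsClosed ({x} : Set X) → ∃ z, g z = x)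
    [DCoh.HasLpull g] {K : DCoh.D X} (hK : ∀ m, DCoh.IsPseudoCoherentD m K)
    {F : CochainComplex X'.Modules ℤ} (e : DCoh.toD X' F ≅ (DCoh.Lpull g).obj K)
    (hF : DerSch.LocFiniteTorAmplitude f' F) : DerSch.LocFiniteTorAmplitudeD f K := by
  rintro F' ⟨eF'⟩ x
  let P := (kRes X).obj F'
  let eP : DCoh.toD X P ≅ DCoh.toD X F' := (resQIso X).app F'
  have hPC : ∀ m, LocPC m (DCoh.toD X P) := fun m =>
    LocPC.of_iso (eP ≪≫ eF').symm ((isPseudoCoherentD_iff m K).1 (hK m))
  choose D a b hzD hD using hF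
  obtain ⟨t, ht⟩ := isCompact_univ.elim_finite_subcover (fun z => (D z : Set X')) (fun z => (D z).isOpen)
    fun z _ => Set.mem_iUnion.2 ⟨z, hzD z⟩
  obtain ⟨a₀, ha₀⟩ := (t.image a).bddBelow
  obtain ⟨b₀, hb₀⟩ := (t.image b).bddAbove
  refine ⟨⊤, a₀, b₀, trivial, fun x' _ => KSix54.torAmplitudeAt_congr f eP
    (torAmplitude_of_closedPoints f hPC (fun x₀ hx₀ => ?_) x')⟩
  obtain ⟨z, rfl⟩ := hsurj x₀ hx₀
  obtain ⟨w, hw, hzw⟩ := Set.mem_iUnion₂.1 (ht (Set.mem_univ z))
  refine torAmplitudeAt_of_closed hc (isKFlat_kRes _) hPC z ?_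
  exact KSix54.torAmplitudeAt_congr f' (e ≪≫ (DCoh.Lpull g).mapIso (eF'.symm ≪≫ eP.symm) ≪≫
      lpullIso g (isKFlat_kRes _))
    (DRingTor.mono (ha₀ (Finset.mem_image_of_mem a hw)) (hb₀ (Finset.mem_image_of_mem b hw)) (hD w z hzw))

end Groth.Agent.FlatMor3.Thick
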