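import Groth.Agent.KFlatLib.Ring.Resolution
import Groth.Agent.KFlatLib.Bounded
import Groth.Agent.KFlatLib.SingleIso
import Mathlib.RingTheory.Ideal.Quotient.Operations
import Mathlib.LinearAlgebra.TensorProduct.Tower

/-!
# Acyclicity above a degree descends along nilpotent surjections
-/

set_option linter.style.haveILetI false
set_option backward.isDefEq.respectTransparency false
set_option backward.isDefEq.respectTransparency.types false

universe u

open CategoryTheory CategoryTheory.Limits MonoidalCategory TensorProduct

namespace Groth.Agent.FlatMor3.Thick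

open Groth.Agent.KFlatLib

section tensorBound

variable {B : Type u} [CommRing B] {b : ℤ} {T : CochainComplex (ModuleCat.{u} B) ℤ}

/-- A K-flat complex without cohomology above `b` keeps this property after tensoring with a module. -/
theorem isZero_homology_tensorLeft (hK : KFlat (curriedTensor (ModuleCat.{u} B)) T)
    (hz : ∀ j, b < j → IsZero (T.homology j)) (N : ModuleCat.{u} B) (j : ℤ) (hj : b < j) :
    IsZero ((((tensorLeft N).mapHomologicalComplex (ComplexShape.up ℤ)).obj T).homology j) := by
  obtain ⟨R, ρ, hρ, hflat, hR⟩ := (ringCover B).exists_bounded_resolution T b hz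
  haveI : R.IsStrictlyLE b := (CochainComplex.isStrictlyLE_iff _ _).2 hR
  have hKR : KFlat (curriedTensor (ModuleCat.{u} B)) R :=
    kFlat_of_isStrictlyLE b fun n => flatObj_ringCover _ (hflat n)
  let T₂ := curriedTensor (ModuleCat.{u} B)
  let S := (HomologicalComplex.single (ModuleCat.{u} B) (ComplexShape.up ℤ) 0).obj N
  haveI : QuasiIso ((T₂.map₂CochainComplex.flip.obj S).map ρ) := by
    haveI := quasiIso_tensor (ringCover B) flatObj_ringCover curriedTensorFlipIso ρ hKR hK S
    exact (quasiIso_iff_of_arrow_mk_iso _ _
      (((Functor.mapArrowFunctor _ _).mapIso (symmIso curriedTensorFlipIso S)).app (Arrow.mk ρ))).2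
        (by assumption)
  let e : T₂.map₂CochainComplex.flip.obj S ≅ (tensorLeft N).mapHomologicalComplex (ComplexShape.up ℤ) :=
    singleIso T₂ N ≪≫ NatIso.mapHomologicalComplex (curriedTensorFlipIso.app N) _
  have hq : QuasiIso (((tensorLeft N).mapHomologicalComplex (ComplexShape.up ℤ)).map ρ) :=
    (quasiIso_iff_of_arrow_mk_iso _ _ (((Functor.mapArrowFunctor _ _).mapIso e).app (Arrow.mk ρ))).1
      (by assumption)
  haveI := (quasiIsoAt_iff_isIso_homologyMap _ j).1 (hq.quasiIsoAt j)
  refine IsZero.of_iso ?_ (asIso (HomologicalComplex.homologyMap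
    (((tensorLeft N).mapHomologicalComplex (ComplexShape.up ℤ)).map ρ) j)).symm
  exact ShortComplex.isZero_homology_of_isZero_X₂ _ ((tensorLeft N).map_isZero (hR j hj))

end tensorBound

variable {A B : Type u} [CommRing A] [CommRing B] (ψ : A →+* B)

/-- Tensoring with a `B`-module is computed after base change. -/
noncomputable def tensorRestrictIso (N : ModuleCat.{u} B) :
    tensorLeft ((ModuleCat.restrictScalars ψ).obj N) ≅
      ModuleCat.extendScalars.{u, u, u} ψ ⋙ tensorLeft N ⋙ ModuleCat.restrictScalars ψ :=
  letI : Algebra A B := ψ.toAlgebra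
  letI : Module A N := Module.compHom N ψ
  haveI : IsScalarTower A B N := IsScalarTower.of_algebraMap_smul fun _ _ => rfl
  NatIso.ofComponents
    (fun M => LinearEquiv.toModuleIso
      (m₁ := ((tensorLeft ((ModuleCat.restrictScalars ψ).obj N)).obj M).isModule)
      (m₂ := ((ModuleCat.extendScalars.{u, u, u} ψ ⋙ tensorLeft N ⋙ ModuleCat.restrictScalars ψ).obj M).isModule)
      ((TensorProduct.AlgebraTensorModule.cancelBaseChange A B B (N : Type u) (M : Type u)).restrictScalars A).symm)
    fun {M M'} g => by
      apply ModuleCat.hom_ext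
      exact TensorProduct.ext' fun n m => rfl

variable {ψ} {b : ℤ} {T : CochainComplex (ModuleCat.{u} A) ℤ}

/-- The complex is exact above `b` if so is its base change along a nilpotent surjection. -/
theorem isZero_homology_of_extendScalars (hψ : Function.Surjective ψ) (hnil : IsNilpotent (RingHom.ker ψ))
    (hflat : ∀ n, Module.Flat A (T.X n))
    (hK : KFlat (curriedTensor (ModuleCat.{u} B))
      (((ModuleCat.extendScalars.{u, u, u} ψ).mapHomologicalComplex (ComplexShape.up ℤ)).obj T))
    (hz : ∀ j, b < j → IsZero ((((ModuleCat.extendScalars.{u, u, u} ψ).mapHomologicalComplex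
      (ComplexShape.up ℤ)).obj T).homology j)) :
    ∀ j, b < j → IsZero (T.homology j) := by
  let F := fun N : ModuleCat.{u} A => ((tensorLeft N).mapHomologicalComplex (ComplexShape.up ℤ)).obj T
  let I := RingHom.ker ψ
  have hB : ∀ N : ModuleCat.{u} B, ∀ j, b < j → IsZero ((F ((ModuleCat.restrictScalars ψ).obj N)).homology j) := by
    intro N j hj
    let E := (((ModuleCat.extendScalars.{u, u, u} ψ).mapHomologicalComplex (ComplexShape.up ℤ)).obj T)
    let G := ((tensorLeft N).mapHomologicalComplex (ComplexShape.up ℤ)).obj E
    let e : F ((ModuleCat.restrictScalars ψ).obj N) ≅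
        ((ModuleCat.restrictScalars ψ).mapHomologicalComplex (ComplexShape.up ℤ)).obj G :=
      HomologicalComplex.Hom.isoOfComponents (fun n => (tensorRestrictIso ψ N).app (T.X n))
        (fun i k _ => ((tensorRestrictIso ψ N).hom.naturality (T.d i k)).symm)
    exact (((ModuleCat.restrictScalars ψ).map_isZero (isZero_homology_tensorLeft hK hz N j hj)).of_iso
      ((G.sc j).mapHomologyIso (ModuleCat.restrictScalars ψ))).of_iso
      ((HomologicalComplex.homologyFunctor _ _ j).mapIso e)
  have hI : ∀ (N : ModuleCat.{u} A), (∀ r ∈ I, ∀ x : N, r • x = 0) →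
      ∀ j, b < j → IsZero ((F N).homology j) := by
    intro N hN
    let σ : B → A := Function.surjInv hψ
    have hσ : ∀ c, ψ (σ c) = c := Function.surjInv_eq hψ
    have hc : ∀ r s : A, ψ r = ψ s → ∀ x : N, r • x = s • x := fun r s h x => by
      rw [← sub_eq_zero, ← sub_smul]
      exact hN _ (RingHom.mem_ker.2 (by rw [map_sub, h, sub_self])) x
    letI : Module B N :=
      { smul := fun c x => σ c • x
        one_smul := fun x => (hc _ 1 (by rw [hσ, map_one]) x).trans (one_smul A x)
        mul_smul := fun c d x => (hc _ (σ c * σ d) (by rw [map_mul, hσ, hσ, hσ]) x).trans (mul_smul _ _ _)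
        smul_zero := fun c => smul_zero (σ c)
        smul_add := fun c x y => smul_add (σ c) x y
        add_smul := fun c d x => (hc _ (σ c + σ d) (by rw [map_add, hσ, hσ, hσ]) x).trans (add_smul _ _ _)
        zero_smul := fun x => (hc _ 0 (by rw [hσ, map_zero]) x).trans (zero_smul A x) }
    let e : (ModuleCat.restrictScalars ψ).obj (ModuleCat.of B N) ≅ N :=
      LinearEquiv.toModuleIso (m₁ := ((ModuleCat.restrictScalars ψ).obj (ModuleCat.of B N)).isModule)
        (m₂ := N.isModule)
        { AddEquiv.refl _ with
          map_smul' := fun r x => by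
            show σ (ψ r) • (show N from x) = r • (show N from x)
            exact hc _ _ (hσ _) _ }
    intro j hj
    exact (hB (ModuleCat.of B N) j hj).of_iso ((HomologicalComplex.homologyFunctor _ _ j).mapIso
      ((NatIso.mapHomologicalComplex ((tensoringLeft (ModuleCat.{u} A)).mapIso e) _).app T)).symm
  have key : ∀ (k : ℕ) (N : ModuleCat.{u} A), (∀ r ∈ I ^ k, ∀ x : N, r • x = 0) →
      ∀ j, b < j → IsZero ((F N).homology j) := by
    intro k
    induction k with
    | zero =>
      intro N hN j hj
      haveI : Subsingleton N := ⟨fun x y => by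
        rw [← one_smul A x, ← one_smul A y, hN 1 (by simp) x, hN 1 (by simp) y]⟩
      have hN0 : IsZero N := ModuleCat.isZero_of_subsingleton _
      exact ShortComplex.isZero_homology_of_isZero_X₂ _
        (((tensoringLeft (ModuleCat.{u} A)).map_isZero hN0).obj (T.X j))
    | succ k ih =>
      intro N hN j hj
      let P : Submodule A N := I • (⊤ : Submodule A N)
      let S : ShortComplex (ModuleCat.{u} A) := ShortComplex.mk (ModuleCat.ofHom P.subtype)
        (ModuleCat.ofHom P.mkQ) (by ext x; exact (Submodule.Quotient.mk_eq_zero P).2 x.2)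
      have hS : S.ShortExact :=
        { exact := (ShortComplex.moduleCat_exact_iff S).2 fun x hx =>
            ⟨⟨x, (Submodule.Quotient.mk_eq_zero P).1 hx⟩, rfl⟩
          mono_f := (ModuleCat.mono_iff_injective _).2 Subtype.val_injective
          epi_g := (ModuleCat.epi_iff_surjective _).2 P.mkQ_surjective }
      let C : ShortComplex (CochainComplex (ModuleCat.{u} A) ℤ) :=
        ShortComplex.mk
          ((NatTrans.mapHomologicalComplex ((tensoringLeft (ModuleCat.{u} A)).map S.f) _).app T)
          ((NatTrans.mapHomologicalComplex ((tensoringLeft (ModuleCat.{u} A)).map S.g) _).app T)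
          (by
            ext n : 1
            show (S.f ▷ T.X n) ≫ (S.g ▷ T.X n) = 0
            rw [← comp_whiskerRight, S.zero]
            exact MonoidalPreadditive.zero_whiskerRight)
      have hC : C.ShortExact := (HomologicalComplex.shortExact_iff_degreewise_shortExact C).2 fun n => by
        haveI : Module.Flat A (T.X n) := hflat n
        exact
          { exact := (ShortComplex.ShortExact.moduleCat_exact_iff_function_exact _).2
              (Module.Flat.rTensor_exact (T.X n : Type u) (LinearMap.exact_subtype_mkQ P))
            mono_f := (ModuleCat.mono_iff_injective _).2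
              (Module.Flat.rTensor_preserves_injective_linearMap P.subtype Subtype.val_injective)
            epi_g := (ModuleCat.epi_iff_surjective _).2
              (LinearMap.rTensor_surjective (T.X n : Type u) P.mkQ_surjective) }
      refine (hC.homology_exact₂ j).isZero_of_both_zeros ?_ ?_
      · refine IsZero.eq_of_src (ih S.X₁ (fun r hr x => Subtype.ext ?_) j hj) _ _
        have : ∀ y ∈ P, r • y = 0 := fun y hy => by
          refine Submodule.smul_induction_on (p := fun y => r • y = 0) hy (fun a ha z _ => ?_)
            (fun a c ha hc => ?_)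
          · rw [← mul_smul]
            exact hN _ (pow_succ I k ▸ Ideal.mul_mem_mul hr ha) z
          · rw [smul_add, ha, hc, add_zero]
        exact this _ x.2
      · refine IsZero.eq_of_tgt (hI S.X₃ (fun r hr x => ?_) j hj) _ _
        obtain ⟨y, rfl⟩ := P.mkQ_surjective x
        exact (Submodule.Quotient.mk_eq_zero P).2 (Submodule.smul_mem_smul hr trivial)
  obtain ⟨n, hn⟩ := hnil
  intro j hj
  refine (key n (𝟙_ (ModuleCat.{u} A)) (fun r hr x => ?_) j hj).of_iso
    ((HomologicalComplex.homologyFunctor _ _ j).mapIso
      (((NatIso.mapHomologicalComplex (leftUnitorNatIso (ModuleCat.{u} A)) _).app T) ≪≫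
        (Functor.mapHomologicalComplexIdIso _ _).app T)).symm
  rw [show I ^ n = 0 from hn] at hr
  rw [show r = 0 from hr, zero_smul]

end Groth.Agent.FlatMor3.Thick
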