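import Groth.Agent.FlatMor3.Thick.NilBound
import Groth.Agent.KFlatLib.Scheme.StalkCx
import Groth.Agent.KFlatLib.Scheme.Pullback
import Groth.Agent.KFlatLib.Scheme.FlatDescent
import Groth.Prelude.Def_MoreMor

/-!
# Cohomological bound along a thickening, on stalks
-/

set_option linter.style.haveILetI false
set_option backward.isDefEq.respectTransparency false
set_option backward.isDefEq.respectTransparency.types false

universe u

open CategoryTheory CategoryTheory.Limits AlgebraicGeometry Opposite TopologicalSpace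

namespace Groth.Agent.FlatMor3.Thick

open Groth.Agent.KFlatLib

variable {X X' : Scheme.{u}} {i : X ⟶ X'}

/-- The kernel of the stalk map of a closed immersion comes from the kernel on an affine open. -/
theorem ker_stalkMap_le [IsClosedImmersion i] (x : X) {U : X'.Opens} (hU : IsAffineOpen U) (hx : i.base x ∈ U) :
    RingHom.ker (i.stalkMap x).hom ≤
      (RingHom.ker (i.app U).hom).map (X'.presheaf.germ U (i.base x) hx).hom := by
  intro a ha
  rw [RingHom.mem_ker] at ha
  let g := (X'.presheaf.germ U (i.base x) hx).hom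
  let g' := (X.presheaf.germ (i ⁻¹ᵁ U) x hx).hom
  have hnat : ∀ r, (i.stalkMap x).hom (g r) = g' (i.app U r) := fun r =>
    ConcreteCategory.congr_hom (Scheme.Hom.germ_stalkMap i U x hx) r
  letI := TopCat.Presheaf.algebra_section_stalk X'.presheaf (⟨i.base x, hx⟩ : U)
  haveI := hU.isLocalization_stalk ⟨i.base x, hx⟩
  obtain ⟨⟨s, t⟩, hst⟩ := IsLocalization.surj (hU.primeIdealOf ⟨i.base x, hx⟩).asIdeal.primeCompl a
  have hst' : a * g t = g s := hst
  have ht : IsUnit (g t) := IsLocalization.map_units _ t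
  have h0 : g' (i.app U s) = 0 := by
    rw [← hnat, ← hst', map_mul, ha, zero_mul]
  letI := TopCat.Presheaf.algebra_section_stalk X.presheaf (⟨x, hx⟩ : i ⁻¹ᵁ U)
  haveI := (hU.preimage i).isLocalization_stalk ⟨x, hx⟩
  obtain ⟨c, hc⟩ := (IsLocalization.map_eq_zero_iff
    ((hU.preimage i).primeIdealOf ⟨x, hx⟩).asIdeal.primeCompl _ (i.app U s)).1 h0
  obtain ⟨c₀, hc₀⟩ := i.app_surjective U hU (c : Γ(X, i ⁻¹ᵁ U))
  have hu : IsUnit (g c₀) := by
    refine IsUnit.of_map (i.stalkMap x).hom _ ?_
    rw [hnat, hc₀]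
    exact IsLocalization.map_units _ c
  have hmem : g (c₀ * s) ∈ (RingHom.ker (i.app U).hom).map g :=
    Ideal.mem_map_of_mem g (RingHom.mem_ker.2 (by rw [map_mul, hc₀]; exact hc))
  rw [map_mul, Ideal.unit_mul_mem_iff_mem _ hu, ← hst', mul_comm, Ideal.unit_mul_mem_iff_mem _ ht] at hmem
  exact hmem

/-- The kernel of the stalk map of a finite order thickening is nilpotent. -/
theorem isNilpotent_ker_stalkMap (hi : MoreMor.IsFiniteOrderThickening i) (x : X) :
    IsNilpotent (RingHom.ker (i.stalkMap x).hom) := by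
  haveI := hi.1.1
  obtain ⟨U, hU, hx, -⟩ :=
    exists_isAffineOpen_mem_and_subset (X := X') (x := i.base x) (U := ⊤) trivial
  obtain ⟨n, hn⟩ := hi.2
  refine ⟨n, le_antisymm ?_ bot_le⟩
  refine (Ideal.pow_right_mono (ker_stalkMap_le x hU hx) n).trans ?_
  have h0 : RingHom.ker (i.app U).hom ^ n = ⊥ := by
    have h1 := congrArg (fun I : X'.IdealSheafData => I.ideal ⟨U, hU⟩) hn
    simpa [Scheme.Hom.ker_apply] using h1
  rw [← Ideal.map_pow, h0, Ideal.map_bot]
  exact le_refl _

/-- A surjective closed immersion whose ideal is nilpotent on every stalk. -/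
structure NilImm (i : X ⟶ X') : Prop where
  closed : IsClosedImmersion i
  surjective : ∀ y, ∃ x, i.base x = y
  nilpotent : ∀ x, IsNilpotent (RingHom.ker (i.stalkMap x).hom)

theorem nilImm_of_thickening (hi : MoreMor.IsFiniteOrderThickening i) : NilImm i :=
  haveI := hi.1.1
  haveI := hi.1.2
  ⟨hi.1.1, fun y => i.surjective y, isNilpotent_ker_stalkMap hi⟩

theorem NilImm.restrict (hi : NilImm i) (W : X'.Opens) : NilImm (i ∣_ W) := by
  refine ⟨IsZariskiLocalAtTarget.restrict hi.closed W, fun y => ?_, fun x => ?_⟩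
  · obtain ⟨x, hx⟩ := hi.surjective y.1
    exact ⟨⟨x, show i.base x ∈ W from hx ▸ y.2⟩, Subtype.ext ((morphismRestrict_base_coe i W _).trans hx)⟩
  · let e := morphismRestrictStalkMap i W x
    obtain ⟨n, hn⟩ := hi.nilpotent x.1
    refine ⟨n, le_antisymm ?_ bot_le⟩
    let a := (Arrow.leftFunc.mapIso e).commRingCatIsoToRingEquiv
    have hker : RingHom.ker ((i ∣_ W).stalkMap x).hom ≤ (RingHom.ker (i.stalkMap x.1).hom).map a.symm.toRingHom := by
      intro r hr
      rw [RingHom.mem_ker] at hr
      have h : (i.stalkMap x.1).hom (a r) = (Arrow.rightFunc.map e.hom).hom (((i ∣_ W).stalkMap x).hom r) :=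
        ConcreteCategory.congr_hom (Arrow.w e.hom) r
      rw [hr, map_zero] at h
      have := Ideal.mem_map_of_mem a.symm.toRingHom (RingHom.mem_ker.2 h)
      rwa [RingEquiv.toRingHom_eq_coe, RingEquiv.coe_toRingHom, RingEquiv.symm_apply_apply] at this
    refine (Ideal.pow_right_mono hker n).trans ?_
    rw [← Ideal.map_pow, hn]
    exact (Ideal.map_bot).le

/-- If the pullback of a K-flat complex of flat modules has no stalk cohomology above `b` at `x`, then
neither has the complex at `i x`. -/
theorem isZero_stalk_homology (hi : NilImm i) {P : CochainComplex X'.Modules ℤ}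
    (hPf : ∀ n, FlatMod.IsFlat (P.X n))
    (hK : DCoh.IsKFlat ((pullCx i).obj P)) (x : X) (b : ℤ)
    (hz : ∀ j, b < j → IsZero ((DerSch.stalkFunctor X x).obj (((pullCx i).obj P).homology j)))
    (j : ℤ) (hj : b < j) :
    IsZero ((DerSch.stalkFunctor X' (i.base x)).obj (P.homology j)) := by
  haveI := hi.closed
  let ψ := (i.stalkMap x).hom
  let T := (stalkCx (i.base x)).obj P
  let F := (ModuleCat.extendScalars.{u, u, u} ψ).mapHomologicalComplex (ComplexShape.up ℤ)
  let e : (stalkCx x).obj ((pullCx i).obj P) ≅ F.obj T :=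
    HomologicalComplex.Hom.isoOfComponents (fun n => (stalkPullbackIso i x).app (P.X n))
      (fun k l _ => ((stalkPullbackIso i x).hom.naturality (P.d k l)).symm)
  have hKF : KFlat (MonoidalCategory.curriedTensor (ModuleCat.{u} (X.presheaf.stalk x))) (F.obj T) :=
    ((kFlat_iff_stalk _).1 hK x).of_iso e
  have hzF : ∀ k, b < k → IsZero ((F.obj T).homology k) := fun k hk =>
    ((hz k hk).of_iso ((((pullCx i).obj P).sc k).mapHomologyIso (DerSch.stalkFunctor X x))).of_iso
      ((HomologicalComplex.homologyFunctor _ _ k).mapIso e).symm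
  exact (isZero_homology_of_extendScalars (T := T) (i.stalkMap_surjective x)
      (hi.nilpotent x) (fun n => hPf n (i.base x)) hKF hzF j hj).of_iso
    ((P.sc j).mapHomologyIso (DerSch.stalkFunctor X' (i.base x))).symm

end Groth.Agent.FlatMor3.Thick
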