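import Groth.Agent.FlatMor3.Thick.StalkBound
import Groth.Agent.KFlatLib.Scheme.PullTensor
import Groth.Agent.KFlatLib.Scheme.ClosedPush

/-!
# The unit of pullback and pushforward along a closed immersion
-/

set_option linter.style.haveILetI false
set_option backward.isDefEq.respectTransparency false
set_option backward.isDefEq.respectTransparency.types false

universe u

open CategoryTheory CategoryTheory.Limits AlgebraicGeometry Opposite TopologicalSpace
open scoped TensorProduct

namespace Groth.Agent.FlatMor3.Thick

open Groth.Agent.KFlatLib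

variable {X X' : Scheme.{u}} {i : X ⟶ X'}

lemma surjective_extend_unit {A B : Type u} [CommRing A] [CommRing B] (ψ : A →+* B)
    (hψ : Function.Surjective ψ) (M : ModuleCat.{u} A) :
    Function.Surjective ((ModuleCat.extendRestrictScalarsAdj ψ).unit.app M) := by
  letI : Algebra A B := ψ.toAlgebra
  intro z
  induction z using TensorProduct.induction_on with
  | zero => exact ⟨0, map_zero _⟩
  | tmul b m =>
    obtain ⟨a, rfl⟩ := hψ b
    refine ⟨a • m, ?_⟩
    show (1 : B) ⊗ₜ[A] (a • m) = algebraMap A B a ⊗ₜ[A] m
    rw [← TensorProduct.smul_tmul, Algebra.smul_def, mul_one]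
  | add x y hx hy =>
    obtain ⟨a, ha⟩ := hx
    obtain ⟨b, hb⟩ := hy
    exact ⟨a + b, (map_add _ a b).trans (congrArg₂ (· + ·) ha hb)⟩

/-- A map is epi if it is surjective on stalks. -/
lemma epi_of_stalk_surjective {M N : X.Modules} (g : M ⟶ N)
    (h : ∀ x, Function.Surjective ((DerSch.stalkFunctor X x).map g)) : Epi g := by
  refine Preadditive.epi_of_isZero_cokernel _ (isZero_of_stalk _ fun x => ?_)
  haveI : Epi ((DerSch.stalkFunctor X x).map g) := (ModuleCat.epi_iff_surjective _).2 (h x)
  exact (isZero_cokernel_of_epi ((DerSch.stalkFunctor X x).map g)).of_iso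
    (PreservesCokernel.iso (DerSch.stalkFunctor X x) g)

/-- The unit is epi for a closed immersion which is surjective on points. -/
lemma epi_unit (hi : NilImm i) (H : X'.Modules) :
    Epi ((Scheme.Modules.pullbackPushforwardAdjunction i).unit.app H) := by
  haveI := hi.closed
  refine epi_of_stalk_surjective _ fun y => ?_
  obtain ⟨x, rfl⟩ := hi.surjective y
  let η := (Scheme.Modules.pullbackPushforwardAdjunction i).unit.app H
  let Z := (Scheme.Modules.pullback i).obj H
  let σ : (DerSch.stalkFunctor X' (i.base x)).obj ((Scheme.Modules.pushforward i).obj Z) →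
      (DerSch.stalkFunctor X x).obj Z := (TopCat.Presheaf.stalkPushforward Ab.{u} i.base Z.presheaf x).hom
  have hσ : Function.Bijective σ :=
    ConcreteCategory.bijective_of_isIso (TopCat.Presheaf.stalkPushforward Ab.{u} i.base Z.presheaf x)
  intro m'
  obtain ⟨h, hh⟩ := surjective_extend_unit (i.stalkMap x).hom (i.stalkMap_surjective x) _
    ((stalkPullbackIso i x).hom.app H (σ m'))
  obtain ⟨U, hU, s, rfl⟩ := exists_germP (P := DCoh.toP.obj H) h
  refine ⟨gm H U hU s, hσ.1 ?_⟩
  refine (ConcreteCategory.bijective_of_isIso ((stalkPullbackIso i x).hom.app H)).1 ?_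
  refine (Eq.trans ?_ (stalkPullbackIso_gm i x H U hU s)).trans hh
  refine congrArg _ ?_
  refine (congrArg σ (stalk_map_gm η U hU s)).trans ?_
  exact ConcreteCategory.congr_hom
    (TopCat.Presheaf.stalkPushforward_germ Ab.{u} i.base Z.presheaf U x hU) _

/-- Nakayama for nilpotent ideals. -/
lemma isZero_of_extendScalars {A B : Type u} [CommRing A] [CommRing B] (ψ : A →+* B)
    (hψ : Function.Surjective ψ) (hnil : IsNilpotent (RingHom.ker ψ)) (M : ModuleCat.{u} A)
    (h : IsZero ((ModuleCat.extendScalars ψ).obj M)) : IsZero M := by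
  letI : Algebra A B := ψ.toAlgebra
  haveI hs : Subsingleton (B ⊗[A] (M : Type u)) := ModuleCat.subsingleton_of_isZero h
  obtain ⟨n, hn⟩ := hnil
  let I := RingHom.ker ψ
  let e : (A ⧸ I) ≃ₐ[A] B := Ideal.quotientKerAlgEquivOfSurjective (f := Algebra.ofId A B) hψ
  haveI : Subsingleton ((M : Type u) ⧸ I • (⊤ : Submodule A M)) :=
    (((TensorProduct.quotTensorEquivQuotSMul (M : Type u) I).symm.trans
      (TensorProduct.congr e.toLinearEquiv (LinearEquiv.refl A (M : Type u)))).toEquiv).subsingleton
  have h1 : I • (⊤ : Submodule A M) = ⊤ := Submodule.Quotient.subsingleton_iff.1 inferInstance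
  have h2 : ∀ k : ℕ, I ^ k • (⊤ : Submodule A M) = ⊤ := fun k => by
    induction k with
    | zero => simp
    | succ k ih => rw [pow_succ, Submodule.mul_smul, h1, ih]
  have h3 : (⊤ : Submodule A M) = ⊥ := by
    rw [← h2 n, show I ^ n = ⊥ from hn, Submodule.bot_smul]
  haveI : Subsingleton M := (Submodule.subsingleton_iff _).1 (subsingleton_iff_bot_eq_top.1 h3.symm)
  exact ModuleCat.isZero_of_subsingleton _

/-- Modules are zero if their pullback along a nilpotent immersion is. -/
lemma isZero_of_pullback (hi : NilImm i) (C : X'.Modules)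
    (h : IsZero ((Scheme.Modules.pullback i).obj C)) : IsZero C := by
  haveI := hi.closed
  refine isZero_of_stalk _ fun y => ?_
  obtain ⟨x, rfl⟩ := hi.surjective y
  exact isZero_of_extendScalars _ (i.stalkMap_surjective x) (hi.nilpotent x) _
    (((DerSch.stalkFunctor X x).map_isZero h).of_iso ((stalkPullbackIso i x).app C).symm)

/-- A map is epi if its pullback along a nilpotent immersion is. -/
lemma epi_of_epi_pullback (hi : NilImm i) {M N : X'.Modules} (g : M ⟶ N)
    [Epi ((Scheme.Modules.pullback i).map g)] : Epi g := by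
  haveI : PreservesColimitsOfSize.{0, 0} (Scheme.Modules.pullback i) :=
    (Scheme.Modules.pullbackPushforwardAdjunction i).leftAdjoint_preservesColimits
  exact Preadditive.epi_of_isZero_cokernel _ (isZero_of_pullback hi _
    ((isZero_cokernel_of_epi ((Scheme.Modules.pullback i).map g)).of_iso
      (PreservesCokernel.iso (Scheme.Modules.pullback i) g)))

end Groth.Agent.FlatMor3.Thick
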